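import Groth.Agent.FppfPCLib.Base
import Groth.Agent.RelPCSchLib.Desc
import Groth.Agent.KFlatLib.QCohLpull

/-!
# Descent of relative pseudo-coherence of objects with quasi-coherent cohomology
-/

set_option autoImplicit false
set_option linter.style.haveILetI false
set_option backward.isDefEq.respectTransparency false
set_option backward.isDefEq.respectTransparency.types false
set_option maxHeartbeats 1000000

noncomputable section

universe u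

open CategoryTheory CategoryTheory.Limits AlgebraicGeometry Opposite TopologicalSpace TensorProduct
open Groth.Agent
attribute [local instance] HasDerivedCategory.standard
attribute [local instance] FlatRelPCLib.tildeExact

namespace FppfPCLib

variable {X S : Scheme.{u}} (f : X ⟶ S)

theorem rpc_of_isRel {m : ℤ} {E : DCoh.D X} {U : X.Opens} (hU : IsAffineOpen U) {V : S.Opens}
    (h : U ≤ f ⁻¹ᵁ V) {M : Dual.D Γ(X, U)} (hM : FlatRelPCLib.Mod E hU M)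
    (hr : letI := (f.appLE V U h).hom.toAlgebra; DerCA.IsRelPseudoCoherent Γ(S, V) Γ(X, U) m M) :
    RelPCSchLib.RPC f m E U V h := by
  letI := (f.appLE V U h).hom.toAlgebra
  obtain ⟨n, α, hα, hv⟩ := hr
  exact RelPCSchLib.rpc_of_chart f hU h α.toRingHom ⟨hα, α.comp_algebraMap⟩
    ((FlatRelPCLib.chartPC_iff hU α.toRingHom hα hM m).2 hv)

theorem isRel_of_rel {m : ℤ} {E : DCoh.D X} (hE : DerSch.IsPseudoCoherentRel f m E) {U : X.Opens}
    (hU : IsAffineOpen U) {V : S.Opens} (hV : IsAffineOpen V) (h : U ≤ f ⁻¹ᵁ V) {M : Dual.D Γ(X, U)}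
    (hM : FlatRelPCLib.Mod E hU M) :
    letI := (f.appLE V U h).hom.toAlgebra
    DerCA.IsRelPseudoCoherent Γ(S, V) Γ(X, U) m M := by
  haveI := hE.1
  obtain ⟨n, φ, hφ⟩ := RelPCSchLib.exists_isChart f hU hV h
  exact FlatRelPCLib.rpc_of_chart f hU h φ hφ
    ((RelPCSchLib.chartPC_iff m E hU V φ hφ.1).2 (RelPCSchLib.rpc_of_rel f hE hU hV h n φ hφ)) M hM

theorem exists_kFlat_mod {E : DCoh.D X} (hE : DCoh.IsQCohD E) {U : X.Opens} (hU : IsAffineOpen U) :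
    ∃ K : DRing.Cx Γ(X, U), DRing.IsKFlat Γ(X, U) K ∧ FlatRelPCLib.Mod E hU (DRing.toD K) := by
  obtain ⟨M, ⟨eM⟩⟩ := FlatRelPCLib.exists_mod hE hU
  obtain ⟨K, hK, ⟨e⟩⟩ := DRingLib.exists_good_rep M
  exact ⟨K, hK.1, ⟨(DCoh.tildeD _).mapIso e ≪≫ eM⟩⟩

theorem mod_lpull_cx {X' : Scheme.{u}} (g : X' ⟶ X) [DCoh.HasLpull g] {E : DCoh.D X} {U : X.Opens}
    (hU : IsAffineOpen U) {U' : X'.Opens} (hU' : IsAffineOpen U') (h : U' ≤ g ⁻¹ᵁ U) {K : DRing.Cx Γ(X, U)}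
    (hK : DRing.IsKFlat Γ(X, U) K) (hM : FlatRelPCLib.Mod E hU (DRing.toD K)) :
    FlatRelPCLib.Mod ((DCoh.Lpull g).obj E) hU'
      (DerivedCategory.Q.obj ((DRingLib.extCx (g.appLE U U' h).hom).obj K)) := by
  haveI := DRingLib.hasLBaseChange (g.appLE U U' h).hom
  obtain ⟨e⟩ := BaseAmpLib.mod_lpull hU g hU' h hM
  exact ⟨(DCoh.tildeD _).mapIso (DRingLib.lBaseChangeObjIso _ K hK).symm ≪≫ e⟩

/-- Around every image point, a flat morphism of finite presentation restricts to a faithfully flat map of affines. -/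
theorem exists_fppf_pair {X' : Scheme.{u}} (a : X' ⟶ X) [Flat a] [LocallyOfFinitePresentation a]
    {U₀ : X.Opens} (hU₀ : IsAffineOpen U₀) (x' : X') (hx : a x' ∈ U₀) :
    ∃ (U : X.Opens) (U' : X'.Opens) (hU'U : U' ≤ a ⁻¹ᵁ U),
      IsAffineOpen U ∧ IsAffineOpen U' ∧ U ≤ U₀ ∧ a x' ∈ U ∧
      (letI := (a.appLE U U' hU'U).hom.toAlgebra
       Module.FaithfullyFlat Γ(X, U) Γ(X', U') ∧ Algebra.FinitePresentation Γ(X, U) Γ(X', U')) := by
  obtain ⟨U', hU', hxU', hU'U⟩ := exists_isAffineOpen_mem_and_subset (x := x') (U := a ⁻¹ᵁ U₀) hx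
  have hU'U' : U' ≤ a ⁻¹ᵁ U₀ := hU'U
  obtain ⟨g, hgle, hxg⟩ := hU₀.exists_basicOpen_le
    (V := ⟨a '' (U' : Set X'), a.isOpenMap _ U'.2⟩) ⟨a x', ⟨x', hxU', rfl⟩⟩ hx
  let D := X.basicOpen g
  let U'' := X'.basicOpen (a.appLE U₀ U' hU'U' g)
  have hD : IsAffineOpen D := hU₀.basicOpen g
  have hU'' : IsAffineOpen U'' := hU'.basicOpen _
  have hU''eq : U'' = U' ⊓ a ⁻¹ᵁ D := Scheme.basicOpen_appLE a U' U₀ hU'U' g
  have hU''D : U'' ≤ a ⁻¹ᵁ D := hU''eq.trans_le inf_le_right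
  refine ⟨D, U'', hU''D, hD, hU'', X.basicOpen_le g, hxg, ?_⟩
  letI := (a.appLE D U'' hU''D).hom.toAlgebra
  haveI : Module.Flat Γ(X, D) Γ(X', U'') := a.flat_appLE hD hU'' hU''D
  refine ⟨Module.FaithfullyFlat.of_comap_surjective fun p => ?_,
    HasRingHomProperty.appLE (P := @LocallyOfFinitePresentation) a inferInstance ⟨D, hD⟩ ⟨U'', hU''⟩ hU''D⟩
  have hpD : hD.fromSpec p ∈ D := by
    rw [← SetLike.mem_coe, ← hD.range_fromSpec]
    exact ⟨p, rfl⟩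
  obtain ⟨y', hy', hy⟩ := hgle hpD
  have hy'' : y' ∈ U'' := by
    rw [hU''eq]
    exact ⟨hy', show a y' ∈ D from hy ▸ hpD⟩
  obtain ⟨p', hp'⟩ : y' ∈ Set.range hU''.fromSpec := by
    rw [hU''.range_fromSpec]
    exact hy''
  refine ⟨p', hD.fromSpec.isOpenEmbedding.injective ?_⟩
  show hD.fromSpec (Spec.map (a.appLE D U'' hU''D) p') = _
  rw [← Scheme.Hom.comp_apply, hD.SpecMap_appLE_fromSpec a hU'' hU''D, Scheme.Hom.comp_apply, hp', hy]

theorem rel_lpull_source [LocallyOfFiniteType f] {X' : Scheme.{u}} (g : X' ⟶ X) [Flat g]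
    [LocallyOfFinitePresentation g] [DCoh.HasLpull g] {m : ℤ} {E : DCoh.D X} (hq : DCoh.IsQCohD E)
    (hE : DerSch.IsPseudoCoherentRel f m E) :
    DerSch.IsPseudoCoherentRel (g ≫ f) m ((DCoh.Lpull g).obj E) := by
  refine RelPCSchLib.rel_of_points (g ≫ f) fun x' => ?_
  obtain ⟨V, hV, hxV, -⟩ := exists_isAffineOpen_mem_and_subset (x := f (g x')) (U := ⊤) trivial
  obtain ⟨U, hU, hxU, hUV⟩ := exists_isAffineOpen_mem_and_subset (x := g x') (U := f ⁻¹ᵁ V) hxV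
  obtain ⟨U', hU', hxU', hU'U⟩ := exists_isAffineOpen_mem_and_subset (x := x') (U := g ⁻¹ᵁ U) hxU
  have hUV' : U ≤ f ⁻¹ᵁ V := hUV
  have hU'U' : U' ≤ g ⁻¹ᵁ U := hU'U
  have hU'V : U' ≤ (g ≫ f) ⁻¹ᵁ V := fun y hy => hUV' (hU'U' hy)
  refine ⟨U', hU', V, hV, hU'V, hxU', ?_⟩
  obtain ⟨K, hK, hM⟩ := exists_kFlat_mod hq hU
  refine rpc_of_isRel (g ≫ f) hU' hU'V (mod_lpull_cx g hU hU' hU'U' hK hM) ?_
  letI : Algebra Γ(S, V) Γ(X, U) := (f.appLE V U hUV').hom.toAlgebra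
  letI : Algebra Γ(X, U) Γ(X', U') := (g.appLE U U' hU'U').hom.toAlgebra
  letI : Algebra Γ(S, V) Γ(X', U') := ((g ≫ f).appLE V U' hU'V).hom.toAlgebra
  haveI : IsScalarTower Γ(S, V) Γ(X, U) Γ(X', U') := IsScalarTower.of_algebraMap_eq fun r =>
    (congrArg (fun φ : Γ(S, V) ⟶ Γ(X', U') => φ.hom r) (Scheme.Hom.appLE_comp_appLE g f V U U' hUV' hU'U') : _).symm
  haveI : Algebra.FiniteType Γ(S, V) Γ(X, U) := f.finiteType_appLE hV hU hUV'
  haveI : Module.Flat Γ(X, U) Γ(X', U') := g.flat_appLE hU hU' hU'U'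
  haveI : Algebra.FinitePresentation Γ(X, U) Γ(X', U') := g.finitePresentation_appLE hU hU' hU'U'
  exact RelPCLib.isRel_flat_cx (relModuleAll_of_pcohHom PerfModLib.isPerfectHom_of_flat.1) K m
    (isRel_of_rel f hE hU hV hUV' hM)

theorem rel_of_lpull_source [LocallyOfFiniteType f] {ι : Type u} (Xi : ι → Scheme.{u}) (g : ∀ i, Xi i ⟶ X)
    [∀ i, Flat (g i)] [∀ i, LocallyOfFinitePresentation (g i)] (hcov : ∀ x : X, ∃ (i : ι) (y : Xi i), g i y = x)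
    [∀ i, DCoh.HasLpull (g i)] {m : ℤ} {E : DCoh.D X} (hq : DCoh.IsQCohD E)
    (hE : ∀ i, DerSch.IsPseudoCoherentRel (g i ≫ f) m ((DCoh.Lpull (g i)).obj E)) :
    DerSch.IsPseudoCoherentRel f m E := by
  refine RelPCSchLib.rel_of_points f fun x => ?_
  obtain ⟨i, y, rfl⟩ := hcov x
  obtain ⟨V, hV, hxV, -⟩ := exists_isAffineOpen_mem_and_subset (x := f (g i y)) (U := ⊤) trivial
  obtain ⟨U₀, hU₀, hxU₀, hU₀V⟩ := exists_isAffineOpen_mem_and_subset (x := g i y) (U := f ⁻¹ᵁ V) hxV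
  obtain ⟨U, U', hU'U, hU, hU', hUU₀, hxU, hff⟩ := exists_fppf_pair (g i) hU₀ y hxU₀
  have hUV : U ≤ f ⁻¹ᵁ V := hUU₀.trans hU₀V
  have hU'V : U' ≤ (g i ≫ f) ⁻¹ᵁ V := fun z hz => hUV (hU'U hz)
  refine ⟨U, hU, V, hV, hUV, hxU, ?_⟩
  obtain ⟨K, hK, hM⟩ := exists_kFlat_mod hq hU
  refine rpc_of_isRel f hU hUV hM ?_
  letI : Algebra Γ(S, V) Γ(X, U) := (f.appLE V U hUV).hom.toAlgebra
  letI : Algebra Γ(X, U) Γ(Xi i, U') := ((g i).appLE U U' hU'U).hom.toAlgebra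
  letI : Algebra Γ(S, V) Γ(Xi i, U') := ((g i ≫ f).appLE V U' hU'V).hom.toAlgebra
  haveI : IsScalarTower Γ(S, V) Γ(X, U) Γ(Xi i, U') := IsScalarTower.of_algebraMap_eq fun r =>
    (congrArg (fun φ : Γ(S, V) ⟶ Γ(Xi i, U') => φ.hom r) (Scheme.Hom.appLE_comp_appLE (g i) f V U U' hUV hU'U) : _).symm
  haveI : Algebra.FiniteType Γ(S, V) Γ(X, U) := f.finiteType_appLE hV hU hUV
  haveI := hff.1
  haveI := hff.2
  exact isRel_of_fppf K hK m
    (isRel_of_rel (g i ≫ f) (hE i) hU' hV hU'V (mod_lpull_cx (g i) hU hU' hU'U hK hM))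

theorem rel_of_lpull_fppf_base [LocallyOfFiniteType f] {ι : Type u} (Si : ι → Scheme.{u}) (h : ∀ i, Si i ⟶ S)
    [∀ i, Flat (h i)] [∀ i, LocallyOfFinitePresentation (h i)] (hcov : ∀ s : S, ∃ (i : ι) (t : Si i), h i t = s)
    [∀ i, DCoh.HasLpull (pullback.fst f (h i))] {m : ℤ} {E : DCoh.D X} (hq : DCoh.IsQCohD E)
    (hE : ∀ i, DerSch.IsPseudoCoherentRel (pullback.snd f (h i)) m ((DCoh.Lpull (pullback.fst f (h i))).obj E)) :
    DerSch.IsPseudoCoherentRel f m E := by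
  refine RelPCSchLib.rel_of_points f fun x => ?_
  obtain ⟨i, t, ht⟩ := hcov (f x)
  obtain ⟨T₀, hT₀, hxT₀, -⟩ := exists_isAffineOpen_mem_and_subset (x := h i t) (U := ⊤) trivial
  obtain ⟨T, T', hT'T, hT, hT', -, hxT, hff⟩ := exists_fppf_pair (h i) hT₀ t hxT₀
  obtain ⟨U, hU, hxU, hUT⟩ := exists_isAffineOpen_mem_and_subset (x := x) (U := f ⁻¹ᵁ T)
    (show f x ∈ T from ht ▸ hxT)
  have hUT' : U ≤ f ⁻¹ᵁ T := hUT
  let g' := pullback.fst f (h i)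
  let f' := pullback.snd f (h i)
  obtain ⟨hU', hp⟩ := LCILocusLib.pullback_chart (IsPullback.of_hasPullback f (h i)) hT hT' hT'T hU hUT'
  let U' := g' ⁻¹ᵁ U ⊓ f' ⁻¹ᵁ T'
  refine ⟨U, hU, T, hT, hUT', hxU, ?_⟩
  obtain ⟨K, hK, hM⟩ := exists_kFlat_mod hq hU
  refine rpc_of_isRel f hU hUT' hM ?_
  letI : Algebra Γ(S, T) Γ(Si i, T') := ((h i).appLE T T' hT'T).hom.toAlgebra
  letI : Algebra Γ(S, T) Γ(X, U) := (f.appLE T U hUT').hom.toAlgebra
  letI : Algebra Γ(Si i, T') Γ(pullback f (h i), U') := (f'.appLE T' U' inf_le_right).hom.toAlgebra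
  letI : Algebra Γ(X, U) Γ(pullback f (h i), U') := (g'.appLE U U' inf_le_left).hom.toAlgebra
  letI : Algebra Γ(S, T) Γ(pullback f (h i), U') := (f.appLE T U hUT' ≫ g'.appLE U U' inf_le_left).hom.toAlgebra
  haveI : IsScalarTower Γ(S, T) Γ(X, U) Γ(pullback f (h i), U') := IsScalarTower.of_algebraMap_eq fun _ => rfl
  haveI : IsScalarTower Γ(S, T) Γ(Si i, T') Γ(pullback f (h i), U') :=
    IsScalarTower.of_algebraMap_eq' (congrArg CommRingCat.Hom.hom hp.w)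
  haveI : Algebra.IsPushout Γ(S, T) Γ(X, U) Γ(Si i, T') Γ(pullback f (h i), U') :=
    CommRingCat.isPushout_iff_isPushout.mp hp
  haveI : Algebra.FiniteType Γ(S, T) Γ(X, U) := f.finiteType_appLE hT hU hUT'
  haveI := hff.1
  exact isRel_of_base (R' := Γ(Si i, T')) K m
    (isRel_of_rel f' (hE i) hU' hT' inf_le_right (mod_lpull_cx g' hU hU' inf_le_left hK hM))

theorem rel_of_lpull_ffqc {S' X' : Scheme.{u}} [LocallyOfFiniteType f] (h : S' ⟶ S) [Flat h] [Surjective h]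
    [QuasiCompact h] (g' : X' ⟶ X) (f' : X' ⟶ S') [LocallyOfFiniteType f'] (hc : IsPullback g' f' f h)
    [DCoh.HasLpull g'] {m : ℤ} {E : DCoh.D X} (hq : DCoh.IsQCohD E)
    (hE : DerSch.IsPseudoCoherentRel f' m ((DCoh.Lpull g').obj E)) :
    DerSch.IsPseudoCoherentRel f m E := by
  refine RelPCSchLib.rel_of_points f fun x => ?_
  obtain ⟨U, T, hUT, T'', X'', k, f'', g'', U'', hfl, hpb, hU, hT, hxU, hU'', htop, e1, e2, e3, hpush, hff⟩ :=
    PerfModLib.exists_chart f f' g' h hc x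
  haveI : LocallyOfFiniteType f'' := MorphismProperty.of_isPullback hpb inferInstance
  haveI := fun {A B : Scheme.{u}} (q : A ⟶ B) => KFlatLib.hasLpull q
  have hE'' := BaseAmpLib.rel_lpull_baseChange f' f'' g'' k hpb m (KFlatLib.isQCohD_lpull g' E hq) hE
  refine ⟨U, hU, T, hT, hUT, hxU, ?_⟩
  obtain ⟨K, hK, hM⟩ := exists_kFlat_mod hq hU
  refine rpc_of_isRel f hU hUT hM ?_
  obtain ⟨c⟩ := Dual3Lib.nonempty_lpull_comp g'' g' E
  have hE3 := RelPCSchLib.rel_of_iso f'' c hE''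
  letI : Algebra Γ(S, T) Γ(T'', ⊤) := ((k ≫ h).appLE T ⊤ e1).hom.toAlgebra
  letI : Algebra Γ(S, T) Γ(X, U) := (f.appLE T U hUT).hom.toAlgebra
  letI : Algebra Γ(T'', ⊤) Γ(X'', U'') := (f''.appLE ⊤ U'' e2).hom.toAlgebra
  letI : Algebra Γ(X, U) Γ(X'', U'') := ((g'' ≫ g').appLE U U'' e3).hom.toAlgebra
  letI : Algebra Γ(S, T) Γ(X'', U'') := (f.appLE T U hUT ≫ (g'' ≫ g').appLE U U'' e3).hom.toAlgebra
  haveI : IsScalarTower Γ(S, T) Γ(X, U) Γ(X'', U'') := IsScalarTower.of_algebraMap_eq fun _ => rfl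
  haveI : IsScalarTower Γ(S, T) Γ(T'', ⊤) Γ(X'', U'') :=
    IsScalarTower.of_algebraMap_eq' (congrArg CommRingCat.Hom.hom hpush.w)
  haveI : Algebra.IsPushout Γ(S, T) Γ(X, U) Γ(T'', ⊤) Γ(X'', U'') :=
    CommRingCat.isPushout_iff_isPushout.mp hpush
  haveI : Module.FaithfullyFlat Γ(S, T) Γ(T'', ⊤) := RingHom.faithfullyFlat_algebraMap_iff.1 hff
  haveI : Algebra.FiniteType Γ(S, T) Γ(X, U) := f.finiteType_appLE hT hU hUT
  exact isRel_of_base (R' := Γ(T'', ⊤)) K m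
    (isRel_of_rel f'' hE3 hU'' htop e2 (mod_lpull_cx (g'' ≫ g') hU hU'' e3 hK hM))

end FppfPCLib
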