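import Groth.Agent.FppfPCLib.Ring
import Groth.Agent.BaseAmpLib.PC

/-!
# Descent of relative pseudo-coherence of complexes along faithfully flat change of the base
-/

set_option autoImplicit false
set_option linter.style.haveILetI false
set_option backward.isDefEq.respectTransparency false
set_option backward.isDefEq.respectTransparency.types false
set_option maxHeartbeats 800000

noncomputable section

universe u

open CategoryTheory CategoryTheory.Limits TensorProduct
open Groth.Agent
attribute [local instance] HasDerivedCategory.standard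

namespace FppfPCLib

theorem pv_descent {P Q P' Q' : Type u} [CommRing P] [CommRing Q] [CommRing P'] [CommRing Q']
    [Algebra P Q] [Algebra P P'] [Algebra Q Q'] [Algebra P' Q'] [Algebra P Q'] [IsScalarTower P Q Q']
    [IsScalarTower P P' Q'] [Algebra.IsPushout P P' Q Q'] [Module.FaithfullyFlat P P'] {m : ℤ}
    (K : DRing.Cx Q)
    (h : RelPCLib.PV (algebraMap P' Q') m (DerivedCategory.Q.obj ((DRingLib.extCx (algebraMap Q Q')).obj K))) :
    RelPCLib.PV (algebraMap P Q) m (DRing.toD K) := by
  have w : (algebraMap Q Q').comp (algebraMap P Q) = (algebraMap P' Q').comp (algebraMap P P') :=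
    (IsScalarTower.algebraMap_eq P Q Q').symm.trans (IsScalarTower.algebraMap_eq P P' Q')
  have hsq : TorLocLib.IsPushSq (algebraMap P Q) (algebraMap P P') (algebraMap Q Q') (algebraMap P' Q') w := by
    unfold TorLocLib.IsPushSq
    convert (inferInstance : Algebra.IsPushout P P' Q Q') using 1
    all_goals exact Algebra.algebra_ext _ _ fun x => by first | rfl | exact (IsScalarTower.algebraMap_apply P Q Q' x).symm
  exact DRingLib.isPseudoCoherent_of_iso (TorLocLib.restrictDQ (algebraMap P Q) K).symm
    (DRingLib.isPseudoCoherent_of_family (S := fun _ : Unit => P')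
      (DRingLib.detectsZero_of_faithfullyFlat (fun _ : Unit => P') Unit.unit) _ m fun _ =>
      DRingLib.isPseudoCoherent_of_iso (DerivedCategory.Q.mapIso (TorLocLib.sqCxIso _ _ _ _ w hsq K)).symm
        (DRingLib.isPseudoCoherent_of_iso (TorLocLib.restrictDQ _ _) h))

/-- Relative pseudo-coherence descends along a faithfully flat change of the base ring. -/
theorem isRel_of_base {R R' Q Q' : Type u} [CommRing R] [CommRing R'] [CommRing Q] [CommRing Q']
    [Algebra R R'] [Algebra R Q] [Algebra R Q'] [Algebra R' Q'] [Algebra Q Q'] [IsScalarTower R Q Q']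
    [IsScalarTower R R' Q'] [Algebra.IsPushout R Q R' Q'] [Module.FaithfullyFlat R R']
    [Algebra.FiniteType R Q] (K : DRing.Cx Q) (m : ℤ)
    (h : DerCA.IsRelPseudoCoherent R' Q' m (DerivedCategory.Q.obj ((DRingLib.extCx (algebraMap Q Q')).obj K))) :
    DerCA.IsRelPseudoCoherent R Q m (DRing.toD K) := by
  obtain ⟨n, φ, hφ⟩ := RelPCLib.exists_pres R Q
  refine (RelPCLib.isRel_iff φ hφ _ m).2 ?_
  let φ' : MvPolynomial (Fin n) R' →ₐ[R'] Q' :=
    MvPolynomial.aeval fun i => algebraMap Q Q' (φ (MvPolynomial.X i))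
  letI : Algebra (MvPolynomial (Fin n) R) Q := φ.toRingHom.toAlgebra
  letI : Algebra (MvPolynomial (Fin n) R') Q' := φ'.toRingHom.toAlgebra
  letI : Algebra (MvPolynomial (Fin n) R) (MvPolynomial (Fin n) R') := MvPolynomial.algebraMvPolynomial
  letI : Algebra (MvPolynomial (Fin n) R) Q' :=
    (φ'.toRingHom.comp (MvPolynomial.map (algebraMap R R'))).toAlgebra
  haveI : IsScalarTower R (MvPolynomial (Fin n) R) Q :=
    IsScalarTower.of_algebraMap_eq fun r => (φ.commutes r).symm
  haveI : IsScalarTower R' (MvPolynomial (Fin n) R') Q' :=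
    IsScalarTower.of_algebraMap_eq fun r => (φ'.commutes r).symm
  haveI : IsScalarTower (MvPolynomial (Fin n) R) (MvPolynomial (Fin n) R') Q' :=
    IsScalarTower.of_algebraMap_eq fun _ => rfl
  haveI : IsScalarTower (MvPolynomial (Fin n) R) Q Q' := by
    refine IsScalarTower.of_algebraMap_eq' (MvPolynomial.ringHom_ext (fun r => ?_) fun i => ?_)
    · change φ' (MvPolynomial.map (algebraMap R R') (MvPolynomial.C r)) =
        algebraMap Q Q' (φ (MvPolynomial.C r))
      rw [MvPolynomial.map_C, ← MvPolynomial.algebraMap_eq, ← MvPolynomial.algebraMap_eq, φ'.commutes,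
        φ.commutes, ← IsScalarTower.algebraMap_apply, ← IsScalarTower.algebraMap_apply]
    · change φ' (MvPolynomial.map (algebraMap R R') (MvPolynomial.X i)) =
        algebraMap Q Q' (φ (MvPolynomial.X i))
      rw [MvPolynomial.map_X]
      exact MvPolynomial.aeval_X _ _
  haveI : IsScalarTower R (MvPolynomial (Fin n) R') Q' := IsScalarTower.of_algebraMap_eq fun r => by
    rw [IsScalarTower.algebraMap_apply R R' (MvPolynomial (Fin n) R'), ← IsScalarTower.algebraMap_apply R' _ Q',
      ← IsScalarTower.algebraMap_apply R R' Q']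
  have hpo : Algebra.IsPushout (MvPolynomial (Fin n) R) Q (MvPolynomial (Fin n) R') Q' :=
    (Algebra.IsPushout.comp_iff (R := R) (S := MvPolynomial (Fin n) R) (R' := R')
      (S' := MvPolynomial (Fin n) R') (T := Q) (T' := Q')).1 inferInstance
  haveI : Algebra.IsPushout (MvPolynomial (Fin n) R) (MvPolynomial (Fin n) R') Q Q' := hpo.symm
  haveI : Module.FaithfullyFlat (MvPolynomial (Fin n) R) (MvPolynomial (Fin n) R') :=
    Module.FaithfullyFlat.of_linearEquiv _ (MvPolynomial (Fin n) R ⊗[R] R')
      (inferInstance : Algebra.IsPushout R (MvPolynomial (Fin n) R) R' (MvPolynomial (Fin n) R')).out.equiv.symm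
  refine pv_descent (P' := MvPolynomial (Fin n) R') (Q' := Q') K ((RelPCLib.isRel_iff φ' ?_ _ m).1 h)
  intro y
  induction y using hpo.out.inductionOn with
  | zero => exact ⟨0, map_zero _⟩
  | tmul x =>
    exact ⟨x, rfl⟩
  | smul q x hx =>
    obtain ⟨p, rfl⟩ := hx
    obtain ⟨q, rfl⟩ := hφ q
    refine ⟨MvPolynomial.map (algebraMap R R') q * p, ?_⟩
    rw [map_mul, Algebra.smul_def]
    congr 1
    exact IsScalarTower.algebraMap_apply (MvPolynomial (Fin n) R) Q Q' q
  | add x y hx hy =>
    obtain ⟨p, rfl⟩ := hx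
    obtain ⟨q, rfl⟩ := hy
    exact ⟨p + q, map_add _ _ _⟩

end FppfPCLib
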