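import Groth.Agent.PerfModLib.Source
import Groth.Agent.BaseAmpLib.Ring
import Groth.Agent.RelPCLib.AwayGen
import Groth.Agent.TorLocLib.Square
import Groth.Agent.TorLocLib.Restr
import Groth.Agent.KFlatLib.RingBaseChange

/-!
# Descent of relative pseudo-coherence of complexes along faithfully flat covers of the source
-/

set_option autoImplicit false
set_option linter.style.haveILetI false
set_option backward.isDefEq.respectTransparency false
set_option backward.isDefEq.respectTransparency.types false
set_option maxHeartbeats 800000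

noncomputable section

universe u

open CategoryTheory CategoryTheory.Limits TensorProduct TorDimLib PerfModLib
open Groth.Agent
attribute [local instance] HasDerivedCategory.standard

namespace FppfPCLib

attribute [local instance] Algebra.TensorProduct.rightAlgebra

/-- Etale locally, a quasi-finite flat algebra has a finite flat factor through a given point. -/
theorem exists_nbhd {C D : Type u} [CommRing C] [CommRing D] [Algebra C D]
    [Module.FaithfullyFlat C D] [Algebra.FinitePresentation C D]
    [Algebra.QuasiFinite C D] (q : PrimeSpectrum C) :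
    ∃ (E : Type u) (_ : CommRing E) (_ : Algebra C E) (_ : Algebra.Etale C E) (F : Type u) (_ : CommRing F)
      (_ : Algebra E F) (_ : Algebra D F) (_ : Algebra C F) (_ : IsScalarTower C E F) (_ : IsScalarTower C D F),
      q ∈ Set.range (PrimeSpectrum.comap (algebraMap C E)) ∧ Module.Finite E F ∧ Module.FaithfullyFlat E F ∧
      Algebra.FinitePresentation E F ∧ Module.Flat D F ∧ Algebra.FinitePresentation D F := by
  obtain ⟨qD, hqD⟩ := PrimeSpectrum.comap_surjective_of_faithfullyFlat (B := D) q
  haveI : qD.asIdeal.LiesOver q.asIdeal := ⟨(congrArg PrimeSpectrum.asIdeal hqD).symm⟩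
  haveI : Algebra.QuasiFiniteAt C qD.asIdeal := Algebra.QuasiFinite.of_isLocalization qD.asIdeal.primeCompl
  obtain ⟨R', _, _, _, P, _, hPq, e, he, P', _, hP'P, -, heP', -, hfin, -⟩ :=
    Algebra.exists_etale_isIdempotentElem_forall_liesOver_eq q.asIdeal qD.asIdeal
  let F₀ := Localization.Away e
  haveI : Algebra.FinitePresentation R' F₀ :=
    Algebra.FinitePresentation.trans R' (R' ⊗[C] D) F₀
  haveI : Module.Flat R' F₀ := Module.Flat.trans R' (R' ⊗[C] D) F₀
  let U : Set (PrimeSpectrum R') := Set.range (PrimeSpectrum.comap (algebraMap R' F₀))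
  have hU : IsOpen U := (PrimeSpectrum.isOpenMap_comap_of_hasGoingDown_of_finitePresentation (R := R') (S := F₀)).isOpen_range
  have hPU : (⟨P, inferInstance⟩ : PrimeSpectrum R') ∈ U := by
    have hdisj : Disjoint (Submonoid.powers e : Set (R' ⊗[C] D)) P' :=
      (Ideal.disjoint_powers_iff_notMem _ (Ideal.IsPrime.isRadical ‹_›)).2 heP'
    refine ⟨⟨P'.map (algebraMap _ F₀), IsLocalization.isPrime_of_isPrime_disjoint (Submonoid.powers e) F₀ P' ‹_› hdisj⟩,
      PrimeSpectrum.ext ?_⟩
    show (P'.map (algebraMap _ F₀)).comap (algebraMap R' F₀) = P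
    rw [IsScalarTower.algebraMap_eq R' (R' ⊗[C] D) F₀, ← Ideal.comap_comap]
    exact (congrArg (Ideal.comap _) (IsLocalization.under_map_of_isPrime_disjoint (Submonoid.powers e) F₀ ‹_› hdisj)).trans
      hP'P.over.symm
  obtain ⟨_, ⟨g, rfl⟩, hgP, hgU⟩ := PrimeSpectrum.isTopologicalBasis_basic_opens.exists_subset_of_mem_open hPU hU
  let E := Localization.Away g
  let F := Localization.Away (algebraMap R' F₀ g)
  haveI : IsLocalization (Algebra.algebraMapSubmonoid F₀ (Submonoid.powers g)) F := by
    rw [Algebra.algebraMapSubmonoid, Submonoid.map_powers]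
    exact inferInstanceAs (IsLocalization.Away (algebraMap R' F₀ g) F)
  let π : E →+* F := IsLocalization.Away.map E F (algebraMap R' F₀) g
  letI : Algebra E F := π.toAlgebra
  haveI : IsScalarTower R' E F := IsScalarTower.of_algebraMap_eq fun x => by
    show algebraMap R' F x = π (algebraMap R' E x)
    rw [IsScalarTower.algebraMap_apply R' F₀ F]
    exact (IsLocalization.map_eq _ x).symm
  haveI : Algebra.Etale R' E := Algebra.Etale.of_isLocalizationAway g
  haveI : Algebra.Etale C E := Algebra.Etale.comp C R' E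
  haveI hfinE : Module.Finite E F := Module.Finite.of_isLocalization R' F₀ (Submonoid.powers g)
  haveI : Module.Flat R' F := Module.Flat.trans R' F₀ F
  haveI : Module.Flat E F := (Module.flat_iff_of_isLocalization E (Submonoid.powers g) F).2 inferInstance
  haveI : Algebra.FinitePresentation R' F := Algebra.FinitePresentation.trans R' F₀ F
  haveI : Algebra.FinitePresentation E F := Algebra.FinitePresentation.of_restrict_scalars_finitePresentation R' E F
  have hff : Module.FaithfullyFlat E F := Module.FaithfullyFlat.of_comap_surjective fun m => by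
    have hm : PrimeSpectrum.comap (algebraMap R' E) m ∈ (PrimeSpectrum.basicOpen g : Set (PrimeSpectrum R')) := by
      rw [← PrimeSpectrum.localization_away_comap_range E g]
      exact ⟨m, rfl⟩
    obtain ⟨w, hw⟩ := hgU hm
    have hgw : algebraMap R' F₀ g ∉ w.asIdeal := fun hc => by
      have hc' : g ∈ (PrimeSpectrum.comap (algebraMap R' F₀) w).asIdeal := hc
      rw [hw] at hc'
      exact (PrimeSpectrum.mem_basicOpen _ _).1 hm hc'
    have hdisj : Disjoint (Submonoid.powers (algebraMap R' F₀ g) : Set F₀) w.asIdeal :=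
      (Ideal.disjoint_powers_iff_notMem _ w.isPrime.isRadical).2 hgw
    refine ⟨⟨w.asIdeal.map (algebraMap F₀ F), IsLocalization.isPrime_of_isPrime_disjoint _ F _ w.isPrime hdisj⟩, ?_⟩
    apply PrimeSpectrum.localization_comap_injective E (Submonoid.powers g)
    rw [← hw]
    refine PrimeSpectrum.ext ?_
    show ((w.asIdeal.map (algebraMap F₀ F)).comap (algebraMap E F)).comap (algebraMap R' E) =
      w.asIdeal.comap (algebraMap R' F₀)
    rw [Ideal.comap_comap, ← IsScalarTower.algebraMap_eq, IsScalarTower.algebraMap_eq R' F₀ F, ← Ideal.comap_comap]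
    exact congrArg (Ideal.comap _)
      (IsLocalization.under_map_of_isPrime_disjoint (Submonoid.powers (algebraMap R' F₀ g)) F w.isPrime hdisj)
  haveI : IsScalarTower C E F := IsScalarTower.of_algebraMap_eq fun c => by
    rw [IsScalarTower.algebraMap_apply C R' F, IsScalarTower.algebraMap_apply C R' E,
      ← IsScalarTower.algebraMap_apply R' E F]
  haveI : IsScalarTower C D F := IsScalarTower.of_algebraMap_eq (R := C) (S := D) (A := F) fun c => by
    rw [IsScalarTower.algebraMap_apply C R' F, IsScalarTower.algebraMap_apply D (R' ⊗[C] D) F,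
      IsScalarTower.algebraMap_apply R' (R' ⊗[C] D) F]
    refine congrArg _ ?_
    show (algebraMap C R' c) ⊗ₜ[C] (1 : D) = (1 : R') ⊗ₜ[C] algebraMap C D c
    rw [Algebra.algebraMap_eq_smul_one (A := R'), Algebra.algebraMap_eq_smul_one (A := D), TensorProduct.smul_tmul]
  haveI : Module.Flat D (R' ⊗[C] D) :=
    Module.Flat.of_linearEquiv (Algebra.TensorProduct.commRight C D R').symm.toLinearEquiv
  haveI : Algebra.FinitePresentation D (R' ⊗[C] D) :=
    Algebra.FinitePresentation.equiv (Algebra.TensorProduct.commRight C D R')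
  haveI : Module.Flat D F₀ := Module.Flat.trans D (R' ⊗[C] D) F₀
  haveI : Algebra.FinitePresentation D F₀ := Algebra.FinitePresentation.trans D (R' ⊗[C] D) F₀
  haveI : Module.Flat D F := Module.Flat.trans D F₀ F
  haveI : Algebra.FinitePresentation D F := Algebra.FinitePresentation.trans D F₀ F
  refine ⟨E, inferInstance, inferInstance, inferInstance, F, inferInstance, inferInstance, inferInstance,
    inferInstance, inferInstance, inferInstance, ?_, hfinE, hff, inferInstance, inferInstance, inferInstance⟩
  have hgP' : (⟨P, inferInstance⟩ : PrimeSpectrum R') ∈ Set.range (PrimeSpectrum.comap (algebraMap R' E)) := by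
    rw [PrimeSpectrum.localization_away_comap_range E g]
    exact hgP
  obtain ⟨y, hy⟩ := hgP'
  refine ⟨y, PrimeSpectrum.ext ?_⟩
  show y.asIdeal.comap (algebraMap C E) = q.asIdeal
  rw [IsScalarTower.algebraMap_eq C R' E, ← Ideal.comap_comap,
    show y.asIdeal.comap (algebraMap R' E) = P from congrArg PrimeSpectrum.asIdeal hy]
  exact hPq.over.symm

/-- An etale algebra over a quotient lifts. -/
theorem exists_lift {C E : Type u} [CommRing C] [CommRing E] [Algebra C E] [Algebra.Etale C E]
    {P : Type u} [CommRing P] [Algebra P C] (hs : Function.Surjective (algebraMap P C)) :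
    ∃ (S : Type u) (_ : CommRing S) (_ : Algebra P S) (_ : Algebra.Etale P S) (ψ : S →+* E),
      Function.Surjective ψ ∧ (∀ y : PrimeSpectrum E,
        PrimeSpectrum.comap (algebraMap P C) (PrimeSpectrum.comap (algebraMap C E) y) ∈
          Set.range (PrimeSpectrum.comap (algebraMap P S))) ∧
      ∃ w : (algebraMap C E).comp (algebraMap P C) = ψ.comp (algebraMap P S),
        TorLocLib.IsPushSq (algebraMap P C) (algebraMap P S) (algebraMap C E) ψ w := by
  let I : Ideal P := RingHom.ker (algebraMap P C)
  let e₀ : (P ⧸ I) ≃ₐ[P] C := Ideal.quotientKerAlgEquivOfSurjective (f := Algebra.ofId P C) hs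
  letI : Algebra (P ⧸ I) C := e₀.toAlgHom.toRingHom.toAlgebra
  haveI : Algebra.Etale (P ⧸ I) C :=
    Algebra.Etale.of_equiv (AlgEquiv.ofBijective (Algebra.ofId (P ⧸ I) C) e₀.bijective)
  letI : Algebra (P ⧸ I) E := ((algebraMap C E).comp e₀.toAlgHom.toRingHom).toAlgebra
  haveI : IsScalarTower (P ⧸ I) C E := IsScalarTower.of_algebraMap_eq fun _ => rfl
  haveI : Algebra.Etale (P ⧸ I) E := Algebra.Etale.comp (P ⧸ I) C E
  obtain ⟨S, _, _, hS, ⟨eqv⟩⟩ := Groth.Agent.S9436.result P I E
  letI : Algebra P E := ((algebraMap C E).comp (algebraMap P C)).toAlgebra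
  haveI : IsScalarTower P C E := IsScalarTower.of_algebraMap_eq fun _ => rfl
  let ψ : S →ₐ[P] E :=
    { eqv.toAlgHom.toRingHom.comp (Algebra.TensorProduct.includeRight : S →ₐ[P] (P ⧸ I) ⊗[P] S).toRingHom with
      commutes' := fun p => by
        show eqv ((1 : P ⧸ I) ⊗ₜ[P] algebraMap P S p) = algebraMap C E (algebraMap P C p)
        rw [Algebra.algebraMap_eq_smul_one (A := S) p, ← TensorProduct.smul_tmul]
        exact (eqv.commutes (Ideal.Quotient.mk I p) ▸ (by
          rw [show p • (1 : P ⧸ I) = Ideal.Quotient.mk I p from (Algebra.algebraMap_eq_smul_one p).symm]; rfl) :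
            eqv ((p • (1 : P ⧸ I)) ⊗ₜ[P] (1 : S)) = algebraMap C E (algebraMap P C p)) }
  letI : Algebra S E := ψ.toRingHom.toAlgebra
  haveI : IsScalarTower P S E := IsScalarTower.of_algebraMap_eq fun p => (ψ.commutes p).symm
  haveI : Algebra.Etale P S := hS
  let L : S ⊗[P] C →ₐ[S] E :=
    Algebra.TensorProduct.lift (Algebra.ofId S E) (IsScalarTower.toAlgHom P C E) fun _ _ => Commute.all _ _
  let J : (P ⧸ I) ⊗[P] S ≃ₐ[P] S ⊗[P] C :=
    (Algebra.TensorProduct.comm P (P ⧸ I) S).trans (Algebra.TensorProduct.congr AlgEquiv.refl e₀)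
  have hLJ : ∀ t, L (J t) = eqv t := fun t => by
    induction t using TensorProduct.induction_on with
    | zero => rw [map_zero, map_zero, map_zero]
    | add a b ha hb => rw [map_add, map_add, map_add, ha, hb]
    | tmul a s =>
      show L (s ⊗ₜ[P] e₀ a) = eqv (a ⊗ₜ[P] s)
      rw [Algebra.TensorProduct.lift_tmul]
      show eqv ((1 : P ⧸ I) ⊗ₜ[P] s) * algebraMap C E (e₀ a) = _
      rw [show algebraMap C E (e₀ a) = eqv (algebraMap (P ⧸ I) ((P ⧸ I) ⊗[P] S) a) from (eqv.commutes a).symm,
        ← map_mul]
      congr 1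
      rw [Algebra.TensorProduct.algebraMap_apply, Algebra.TensorProduct.tmul_mul_tmul]
      simp
  have hL : Function.Bijective L := by
    have : (L : S ⊗[P] C → E) = eqv ∘ J.symm := funext fun t => by
      show L t = eqv (J.symm t)
      rw [← hLJ, AlgEquiv.apply_symm_apply]
    rw [this]
    exact eqv.bijective.comp J.symm.bijective
  have hψs : Function.Surjective (algebraMap S E) := fun x => by
    obtain ⟨t, rfl⟩ := hL.2 x
    induction t using TensorProduct.induction_on with
    | zero => exact ⟨0, by rw [map_zero, map_zero]⟩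
    | add a b ha hb =>
      obtain ⟨u, hu⟩ := ha
      obtain ⟨v, hv⟩ := hb
      exact ⟨u + v, by rw [map_add, hu, hv, map_add]⟩
    | tmul s c =>
      obtain ⟨p, rfl⟩ := hs c
      refine ⟨s * algebraMap P S p, ?_⟩
      rw [map_mul, ← IsScalarTower.algebraMap_apply P S E, Algebra.TensorProduct.lift_tmul]
      rfl
  haveI : Algebra.IsPushout P S C E := .of_equiv (AlgEquiv.ofBijective L hL)
    (RingHom.ext fun c => by
      show L ((1 : S) ⊗ₜ[P] c) = _
      rw [Algebra.TensorProduct.lift_tmul, map_one, one_mul]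
      rfl)
  refine ⟨S, inferInstance, inferInstance, inferInstance, ψ.toRingHom, hψs, fun y =>
    ⟨PrimeSpectrum.comap (algebraMap S E) y, ?_⟩, RingHom.ext fun p => (ψ.commutes p).symm, ?_⟩
  · rw [← PrimeSpectrum.comap_comp_apply, ← PrimeSpectrum.comap_comp_apply, ← IsScalarTower.algebraMap_eq,
      ← IsScalarTower.algebraMap_eq]
  · unfold TorLocLib.IsPushSq
    convert (inferInstance : Algebra.IsPushout P S C E) using 1
    all_goals exact Algebra.algebra_ext _ _ fun x => rfl

theorem relModuleAll_of_pcohHom {A B : Type u} [CommRing A] [CommRing B] [Algebra A B]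
    (h : MoreMor.IsPseudoCoherentHom A B) : DerCA.IsRelPseudoCoherentModuleAll A B B := by
  obtain ⟨k, χ, hχ, hpc⟩ := h
  letI := χ.toRingHom.toAlgebra
  exact fun i => (RelPCLib.isRel_iff χ hχ _ i).2
    (RelPCLib.ph_of_isPCModule (DRingLib.isPseudoCoherent'_iff_forall.1 hpc) i)

theorem isPC_retract {R : Type u} [CommRing R] {K L : Dual.D R} {m : ℤ} (i : K ⟶ L) (r : L ⟶ K)
    (hir : i ≫ r = 𝟙 K) (h : DRing.IsPseudoCoherent R m L) : DRing.IsPseudoCoherent R m K := by
  haveI : IsSplitMono i := IsSplitMono.mk' ⟨r, hir⟩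
  obtain ⟨C, g, δ, hT⟩ := Pretriangulated.distinguished_cocone_triangle i
  haveI : Mono (Pretriangulated.Triangle.mk i g δ).mor₁ := inferInstanceAs (Mono i)
  obtain ⟨e, -, -⟩ := Pretriangulated.exists_iso_binaryBiproduct_of_distTriang _ hT
    (Pretriangulated.Triangle.mor₃_eq_zero_iff_mono₁ _ hT |>.2 inferInstance)
  exact (DRingLib.isPseudoCoherent_of_biprod (DRingLib.isPseudoCoherent_of_iso e h)).1

variable {C E F S : Type u} [CommRing C] [CommRing E] [CommRing F] [CommRing S]

/-- An additive map compatible with two ring maps acts on base changes. -/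
def changeHom (κE : C →+* E) (κF : C →+* F) (ψE : S →+* E) (ψF : S →+* F) (f : E →+ F)
    (hC : ∀ c e, f (κE c * e) = κF c * f e) (hf : ∀ s e, f (ψE s * e) = ψF s * f e) (X : ModuleCat.{u} C) :
    (ModuleCat.restrictScalars.{u} ψE).obj ((ModuleCat.extendScalars.{u, u, u} κE).obj X) ⟶
      (ModuleCat.restrictScalars.{u} ψF).obj ((ModuleCat.extendScalars.{u, u, u} κF).obj X) :=
  letI := κE.toAlgebra
  letI := κF.toAlgebra
  let f₀ : E →ₗ[C] F := { f with map_smul' := hC }
  let Xe : ModuleCat.{u} S :=
    (ModuleCat.restrictScalars.{u} ψE).obj ((ModuleCat.extendScalars.{u, u, u} κE).obj X)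
  let Yf : ModuleCat.{u} S :=
    (ModuleCat.restrictScalars.{u} ψF).obj ((ModuleCat.extendScalars.{u, u, u} κF).obj X)
  let l : Xe →ₗ[S] Yf :=
    { toFun := fun z => f₀.rTensor X z
      map_add' := fun a b => map_add (f₀.rTensor X) a b
      map_smul' := fun s z => TensorProduct.induction_on z
        ((congrArg (f₀.rTensor X) (smul_zero (A := Xe) s)).trans ((map_zero (f₀.rTensor X)).trans
          (((congrArg (fun y : Yf => s • y) (map_zero (f₀.rTensor X))).trans (smul_zero (A := Yf) s)).symm)))
        (fun e x => congrArg (· ⊗ₜ[C] (x : X)) (hf s e))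
        fun a b ha hb => ((congrArg (f₀.rTensor X) (smul_add (A := Xe) s a b)).trans
          ((map_add (f₀.rTensor X) _ _).trans ((congrArg₂ (fun y z : Yf => y + z) ha hb).trans
            (((congrArg (fun y : Yf => s • y) (map_add (f₀.rTensor X) a b)).trans
              (smul_add (A := Yf) s _ _)).symm)))) }
  (ModuleCat.ofHom (X := (Xe : Type u)) (Y := (Yf : Type u)) l : Xe ⟶ Yf)

/-- The same on complexes. -/
def changeCx (κE : C →+* E) (κF : C →+* F) (ψE : S →+* E) (ψF : S →+* F) (f : E →+ F)
    (hC : ∀ c e, f (κE c * e) = κF c * f e) (hf : ∀ s e, f (ψE s * e) = ψF s * f e) (K : DRing.Cx C) :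
    (DRing.restrictCx ψE).obj ((DRingLib.extCx κE).obj K) ⟶
      (DRing.restrictCx ψF).obj ((DRingLib.extCx κF).obj K) where
  f i := changeHom κE κF ψE ψF f hC hf (K.X i)
  comm' i j _ := by
    refine ModuleCat.hom_ext (LinearMap.ext fun z => ?_)
    letI := κE.toAlgebra
    letI := κF.toAlgebra
    let f₀ : E →ₗ[C] F := { f with map_smul' := hC }
    let d : K.X i →ₗ[C] K.X j := (K.d i j).hom
    change d.lTensor F (f₀.rTensor (K.X i) z) = f₀.rTensor (K.X j) (d.lTensor E z)
    rw [← LinearMap.comp_apply, ← LinearMap.comp_apply, LinearMap.lTensor_comp_rTensor,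
      LinearMap.rTensor_comp_lTensor]

theorem changeCx_retract (κE : C →+* E) (κF : C →+* F) (ψE : S →+* E) (ψF : S →+* F) (f : E →+ F) (g : F →+ E)
    (hC : ∀ c e, f (κE c * e) = κF c * f e) (hf : ∀ s e, f (ψE s * e) = ψF s * f e)
    (hC' : ∀ c e, g (κF c * e) = κE c * g e) (hg : ∀ s e, g (ψF s * e) = ψE s * g e)
    (hgf : ∀ e, g (f e) = e) (K : DRing.Cx C) :
    changeCx κE κF ψE ψF f hC hf K ≫ changeCx κF κE ψF ψE g hC' hg K = 𝟙 _ := by
  refine HomologicalComplex.hom_ext _ _ fun i => ModuleCat.hom_ext (LinearMap.ext fun z => ?_)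
  letI := κE.toAlgebra
  letI := κF.toAlgebra
  let f₀ : E →ₗ[C] F := { f with map_smul' := hC }
  let g₀ : F →ₗ[C] E := { g with map_smul' := hC' }
  change g₀.rTensor (K.X i) (f₀.rTensor (K.X i) z) = z
  rw [← LinearMap.rTensor_comp_apply, show g₀ ∘ₗ f₀ = LinearMap.id from LinearMap.ext hgf]
  exact LinearMap.rTensor_id_apply _ _ z

theorem isZero_of_unit {P L : Type u} [CommRing P] [CommRing L] (χ : P →+* C) (ι : P →+* L) (k : P)
    (hk : χ k = 0) (hu : IsUnit (ι k)) (K : DRing.Cx C) :
    IsZero ((DRingLib.extCx ι).obj ((DRing.restrictCx χ).obj K)) := by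
  rw [IsZero.iff_id_eq_zero]
  refine HomologicalComplex.hom_ext _ _ fun i => ModuleCat.hom_ext (LinearMap.ext fun z => ?_)
  letI := ι.toAlgebra
  letI : Module P (K.X i) := Module.compHom _ χ
  have key : ∀ w : L ⊗[P] K.X i, w = 0 := fun w => by
    induction w using TensorProduct.induction_on with
    | zero => rfl
    | tmul l x =>
      obtain ⟨v, hv⟩ := hu.exists_left_inv
      rw [show l = k • (v * l) by
          rw [show k • (v * l) = ι k * (v * l) from rfl, ← mul_assoc, mul_comm _ v, hv, one_mul],
        TensorProduct.smul_tmul, show k • x = χ k • x from rfl, hk, zero_smul, TensorProduct.tmul_zero]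
    | add a b ha hb => rw [ha, hb, add_zero]
  exact key z

/-- Relative pseudo-coherence of a complex descends along a faithfully flat finitely presented extension. -/
theorem isRel_of_fppf {A C C' : Type u} [CommRing A] [CommRing C] [CommRing C'] [Algebra A C] [Algebra C C']
    [Algebra A C'] [IsScalarTower A C C'] [Algebra.FiniteType A C] [Module.FaithfullyFlat C C']
    [Algebra.FinitePresentation C C'] (K : DRing.Cx C) (hK : DRing.IsKFlat C K) (m : ℤ)
    (h : DerCA.IsRelPseudoCoherent A C' m
      (DerivedCategory.Q.obj ((DRingLib.extCx (algebraMap C C')).obj K))) :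
    DerCA.IsRelPseudoCoherent A C m (DRing.toD K) := by
  haveI : Algebra.FiniteType A C' := Algebra.FiniteType.trans (S := C) inferInstance inferInstance
  obtain ⟨D, _, _, ⟨hqf, hfp, -, ⟨φ⟩⟩, hff⟩ := FlatLib.exists_qf_cover (R := C) (B := C')
  haveI := hqf; haveI := hfp; haveI := hff
  letI : Algebra C' D := φ.toRingHom.toAlgebra
  haveI : IsScalarTower C C' D := IsScalarTower.of_algebraMap_eq fun c => (φ.commutes c).symm
  letI : Algebra A D := ((algebraMap C D).comp (algebraMap A C)).toAlgebra
  haveI : IsScalarTower A C D := IsScalarTower.of_algebraMap_eq fun _ => rfl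
  haveI : IsScalarTower A C' D := IsScalarTower.of_algebraMap_eq fun a => by
    rw [IsScalarTower.algebraMap_apply A C C', ← IsScalarTower.algebraMap_apply C C' D]
    rfl
  haveI : Algebra.FiniteType C' D := Algebra.FiniteType.of_restrictScalars_finiteType C C' D
  haveI : Algebra.FiniteType A D := Algebra.FiniteType.trans (S := C) inferInstance inferInstance
  have hC'D : DerCA.IsRelPseudoCoherentModuleAll C' D D :=
    relModuleAll_of_pcohHom (pcohHom_cancel (isPerfectHom_of_flat (A := C) (B := C')).1
      (isPerfectHom_of_flat (A := C) (B := D)).1)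
  haveI := DRingLib.hasLBaseChange (algebraMap C' D)
  have hD : DerCA.IsRelPseudoCoherent A D m
      (DerivedCategory.Q.obj ((DRingLib.extCx (algebraMap C D)).obj K)) := by
    obtain ⟨k, β, hβ, hv⟩ := RelPCLib.isRel_lBaseChange hC'D _ m h
    exact ⟨k, β, hβ, RelPCLib.PV.of_iso
      (DRingLib.lBaseChangeObjIso _ _ (KFlatLib.isKFlat_extend _ hK) ≪≫
        DerivedCategory.Q.mapIso (TwoTermLib.RelAmp.extCompIso (algebraMap C C') (algebraMap C' D)
          (IsScalarTower.algebraMap_eq C C' D) K)) hv⟩
  obtain ⟨n, α, hα⟩ := RelPCLib.exists_pres A C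
  rw [RelPCLib.isRel_iff α hα]
  let P := MvPolynomial (Fin n) A
  letI : Algebra P C := α.toRingHom.toAlgebra
  haveI : IsScalarTower A P C := IsScalarTower.of_algebraMap_eq fun a => (α.commutes a).symm
  have hloc : ∀ Q : PrimeSpectrum P, ∃ (S : Type u) (_ : CommRing S) (_ : Algebra P S), Module.Flat P S ∧
      Algebra.FinitePresentation P S ∧ Q ∈ Set.range (PrimeSpectrum.comap (algebraMap P S)) ∧
      DRing.IsPseudoCoherent S m (DerivedCategory.Q.obj
        ((DRingLib.extCx (algebraMap P S)).obj ((DRing.restrictCx (algebraMap P C)).obj K))) := by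
    intro Q
    by_cases hQ : Q ∈ Set.range (PrimeSpectrum.comap (algebraMap P C))
    · obtain ⟨q, rfl⟩ := hQ
      obtain ⟨E, _, _, _, F, _, _, _, _, _, _, ⟨y, hy⟩, hfinF, hffF, hfpF, hflDF, hfpDF⟩ :=
        exists_nbhd (C := C) (D := D) q
      haveI := hfinF; haveI := hffF; haveI := hfpF; haveI := hflDF; haveI := hfpDF
      obtain ⟨S, i1, i2, i3, ψ, hψs, hrange, w, hsq⟩ := exists_lift (C := C) (E := E) (P := P) hα
      refine ⟨S, i1, i2, Algebra.Smooth.flat P S, inferInstance, hy ▸ hrange y, ?_⟩
      letI : Algebra A F := ((algebraMap D F).comp (algebraMap A D)).toAlgebra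
      haveI : IsScalarTower A D F := IsScalarTower.of_algebraMap_eq fun _ => rfl
      letI : Algebra A S := ((algebraMap P S).comp (algebraMap A P)).toAlgebra
      haveI : IsScalarTower A P S := IsScalarTower.of_algebraMap_eq fun _ => rfl
      haveI : Module.Flat P S := Algebra.Smooth.flat P S
      haveI : Module.Flat A S := Module.Flat.trans A P S
      haveI : Algebra.FinitePresentation A S := Algebra.FinitePresentation.trans A P S
      letI : Algebra S F := ((algebraMap E F).comp ψ).toAlgebra
      haveI : IsScalarTower A S F := IsScalarTower.of_algebraMap_eq fun a => by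
        show algebraMap D F (algebraMap C D (algebraMap A C a)) =
          algebraMap E F (ψ (algebraMap P S (algebraMap A P a)))
        rw [show ψ (algebraMap P S (algebraMap A P a)) = algebraMap C E (algebraMap P C (algebraMap A P a))
            from (RingHom.congr_fun w _).symm, ← IsScalarTower.algebraMap_apply A P C,
          ← IsScalarTower.algebraMap_apply C D F, ← IsScalarTower.algebraMap_apply C E F]
      haveI : Module.Finite S F := by
        letI : Algebra S E := ψ.toAlgebra
        haveI : IsScalarTower S E F := IsScalarTower.of_algebraMap_eq fun _ => rfl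
        haveI : Module.Finite S E := Module.Finite.of_surjective (Algebra.linearMap S E) hψs
        exact Module.Finite.trans E F
      have hF := RelPCLib.isRel_flat_cx (R := A) (A := D) (B := F)
        (relModuleAll_of_pcohHom (isPerfectHom_of_flat (A := D) (B := F)).1) _ m hD
      have hS : DerCA.IsRelPseudoCoherentModuleAll A S S :=
        relModuleAll_of_pcohHom (isPerfectHom_of_flat (A := A) (B := S)).1
      obtain ⟨k, β, hβ, hv⟩ := (RelPCLib.isRel_intermediate_iff (R := A) (A := S) (B := F) hS _ m).2 hF
      have hv' : RelPCLib.PV (algebraMap S F) m (DerivedCategory.Q.obj ((DRingLib.extCx (algebraMap C F)).obj K)) :=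
        RelPCLib.PV.of_iso (DerivedCategory.Q.mapIso (TwoTermLib.RelAmp.extCompIso (algebraMap C D)
          (algebraMap D F) (IsScalarTower.algebraMap_eq C D F) K))
          ((RelPCLib.pv_finite_algebra β _ m).1 hv)
      haveI : Module.FinitePresentation E F := Module.FinitePresentation.of_finite_of_finitePresentation E F
      obtain ⟨r, hr1⟩ := exists_dual_one E F
      let j : E →+ F := (algebraMap E F).toAddMonoidHom
      have hjC : ∀ c e, j (algebraMap C E c * e) = algebraMap C F c * j e := fun c e =>
        (map_mul (algebraMap E F) _ _).trans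
          (congrArg (· * algebraMap E F e) (IsScalarTower.algebraMap_apply C E F c).symm)
      have hj : ∀ s e, j (ψ s * e) = algebraMap S F s * j e := fun s e => map_mul (algebraMap E F) _ _
      have hrE : ∀ e f, r.toAddMonoidHom (algebraMap E F e * f) = e * r.toAddMonoidHom f := fun e f => by
        show r (algebraMap E F e * f) = _
        rw [← Algebra.smul_def, map_smul, _root_.smul_eq_mul]
        rfl
      have hrC : ∀ c f, r.toAddMonoidHom (algebraMap C F c * f) = algebraMap C E c * r.toAddMonoidHom f :=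
        fun c f => by rw [IsScalarTower.algebraMap_apply C E F]; exact hrE _ _
      have hr : ∀ s f, r.toAddMonoidHom (algebraMap S F s * f) = ψ s * r.toAddMonoidHom f :=
        fun s f => hrE _ _
      refine DRingLib.isPseudoCoherent_of_iso
        (DerivedCategory.Q.mapIso (TorLocLib.sqCxIso _ _ _ _ w hsq K)).symm
        (isPC_retract (DerivedCategory.Q.map (changeCx (algebraMap C E) (algebraMap C F) ψ (algebraMap S F) j hjC hj K))
          (DerivedCategory.Q.map (changeCx (algebraMap C F) (algebraMap C E) (algebraMap S F) ψ r.toAddMonoidHom hrC hr K)) ?_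
          (DRingLib.isPseudoCoherent_of_iso (TorLocLib.restrictDQ _ _) hv'))
      rw [← Functor.map_comp, changeCx_retract _ _ _ _ _ _ hjC hj hrC hr (fun e => ?_), CategoryTheory.Functor.map_id]
      show r (algebraMap E F e) = e
      rw [Algebra.algebraMap_eq_smul_one, map_smul, hr1, _root_.smul_eq_mul, mul_one]
    · rw [range_comap_of_surjective _ (algebraMap P C) hα, PrimeSpectrum.mem_zeroLocus] at hQ
      obtain ⟨k, hk, hkQ⟩ := Set.not_subset.1 hQ
      refine ⟨Localization.Away k, inferInstance, inferInstance, IsLocalization.flat _ (Submonoid.powers k),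
        IsLocalization.Away.finitePresentation k, ?_, ?_⟩
      · rw [PrimeSpectrum.localization_away_comap_range (Localization.Away k) k]
        exact hkQ
      · exact DRingLib.isPseudoCoherent_of_isZero fun i _ =>
          (DRingLib.Hn _ i).map_isZero (DerivedCategory.Q.map_isZero (isZero_of_unit (algebraMap P C) _ k hk (IsLocalization.Away.algebraMap_isUnit k) K))
  choose S i1 i2 hflat hfpS hmem hpc using hloc
  have hopen : ∀ Q, IsOpen (Set.range (PrimeSpectrum.comap (algebraMap P (S Q)))) := fun Q => by
    haveI := hflat Q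
    haveI := hfpS Q
    exact (PrimeSpectrum.isOpenMap_comap_of_hasGoingDown_of_finitePresentation (R := P) (S := S Q)).isOpen_range
  obtain ⟨t, ht⟩ := isCompact_univ.elim_finite_subcover _ hopen fun Q _ => Set.mem_iUnion.2 ⟨Q, hmem Q⟩
  let idx : Fin t.card → PrimeSpectrum P := fun i => t.equivFin.symm i
  haveI : ∀ i, Module.Flat P (S (idx i)) := fun i => hflat (idx i)
  have hdet : DRingLib.DetectsZero (R := P) (fun i => S (idx i)) :=
    detectsZero_of_jointly (fun i => S (idx i)) fun Q => by
      obtain ⟨Q', hQ't, hQ'⟩ := Set.mem_iUnion₂.1 (ht (Set.mem_univ Q))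
      refine ⟨t.equivFin ⟨Q', hQ't⟩, ?_⟩
      have key : ∀ Q'' : PrimeSpectrum P, Q'' = Q' →
          Q ∈ Set.range (PrimeSpectrum.comap (algebraMap P (S Q''))) := by rintro _ rfl; exact hQ'
      exact key _ (congrArg Subtype.val (t.equivFin.symm_apply_apply ⟨Q', hQ't⟩))
  exact DRingLib.isPseudoCoherent_of_iso (TorLocLib.restrictDQ α.toRingHom K).symm
    (DRingLib.isPseudoCoherent_of_family hdet _ m fun i => hpc (idx i))

end FppfPCLib
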